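import Groth.Prelude.Def_Conn
import Mathlib.LinearAlgebra.Trace
import Mathlib.LinearAlgebra.TensorProduct.Basis

/-!
# Checking horizontality along vector fields
-/

universe v u

set_option backward.isDefEq.respectTransparency false

namespace Groth.Agent.Conn12

open TensorProduct Conn

variable {A : Type v} {B Ω : Type u} [CommRing A] [CommRing B] [Algebra A B]
  [AddCommGroup Ω] [Module B Ω]
variable {M M' : Type u} [AddCommGroup M] [Module B M] [Module A M] [IsScalarTower A B M]
  [AddCommGroup M'] [Module B M'] [Module A M'] [IsScalarTower A B M']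

/-- Contraction with a functional. -/
noncomputable def contract (N : Type u) [AddCommGroup N] [Module B N] (θ : Ω →ₗ[B] B) :
    N ⊗[B] Ω →ₗ[B] N :=
  (TensorProduct.rid B N).toLinearMap ∘ₗ TensorProduct.map LinearMap.id θ

theorem contract_tmul {N : Type u} [AddCommGroup N] [Module B N] (θ : Ω →ₗ[B] B) (n : N) (ω : Ω) :
    contract N θ (n ⊗ₜ ω) = θ ω • n := by
  simp [contract]

theorem contract_map {N N' : Type u} [AddCommGroup N] [Module B N] [AddCommGroup N'] [Module B N']
    (θ : Ω →ₗ[B] B) (φ : N →ₗ[B] N') (x : N ⊗[B] Ω) :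
    contract N' θ (TensorProduct.map φ LinearMap.id x) = φ (contract N θ x) := by
  induction x with
  | zero => simp
  | add a b ha hb => simp only [map_add, ha, hb]
  | tmul n ω => simp [contract_tmul]

theorem ext_contract {N : Type u} [AddCommGroup N] [Module B N] {ι : Type*} (b : Module.Basis ι B Ω)
    {x y : N ⊗[B] Ω} (h : ∀ q, contract N (b.coord q) x = contract N (b.coord q) y) : x = y := by
  classical
  apply (TensorProduct.equivFinsuppOfBasisRight b).injective
  refine Finsupp.ext fun q => ?_
  have e : ∀ z, TensorProduct.equivFinsuppOfBasisRight b z q = contract N (b.coord q) z := by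
    intro z
    induction z with
    | zero => simp
    | add a c ha hc => simp only [map_add, Finsupp.add_apply, ha, hc]
    | tmul n ω => simp [contract_tmul]
  rw [e, e, h q]

theorem along_eq (nabla : M →ₗ[A] M ⊗[B] Ω) (θ : Ω →ₗ[B] B) (m : M) :
    along nabla θ m = contract M θ (nabla m) := rfl

theorem isHorizontal_iff {ι : Type*} (b : Module.Basis ι B Ω) (nabla : M →ₗ[A] M ⊗[B] Ω)
    (nabla' : M' →ₗ[A] M' ⊗[B] Ω) (φ : M →ₗ[B] M') :
    IsHorizontal nabla nabla' φ ↔
      ∀ (q : ι) (m : M), along nabla' (b.coord q) (φ m) = φ (along nabla (b.coord q) m) := by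
  constructor
  · intro h q m
    rw [along_eq, h m, contract_map, along_eq]
  · intro h m
    refine ext_contract b fun q => ?_
    rw [contract_map, ← along_eq, ← along_eq, h q m]

variable [Module A Ω] [IsScalarTower A B Ω]

theorem along_smul (δ : Derivation A B Ω) (nabla : M →ₗ[A] M ⊗[B] Ω) (hc : IsConn δ nabla) (θ : Ω →ₗ[B] B)
    (b : B) (m : M) : along nabla θ (b • m) = b • along nabla θ m + θ (δ b) • m := by
  rw [along_eq, along_eq, hc b m, map_add, map_smul, contract_tmul]

theorem along_triv (δ : Derivation A B Ω) (θ : Ω →ₗ[B] B) (b : B) : along (triv δ) θ b = θ (δ b) := by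
  rw [along_eq, triv_apply, contract_tmul, smul_eq_mul, mul_one]

omit [Module A Ω] [IsScalarTower A B Ω] in
theorem along_hom {nabla : M →ₗ[A] M ⊗[B] Ω} {nabla' : M' →ₗ[A] M' ⊗[B] Ω}
    {nabla'' : (M →ₗ[B] M') →ₗ[A] (M →ₗ[B] M') ⊗[B] Ω} (h : IsHomConn nabla nabla' nabla'')
    (θ : Ω →ₗ[B] B) (φ : M →ₗ[B] M') (m : M) :
    along nabla'' θ φ m = along nabla' θ (φ m) - φ (along nabla θ m) := by
  have := congrArg (contract M' θ) (h φ m)
  rw [contract_map, map_sub, contract_map] at this
  exact this

omit [Module A Ω] [IsScalarTower A B Ω] in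
theorem along_tensor {nabla : M →ₗ[A] M ⊗[B] Ω} {nabla' : M' →ₗ[A] M' ⊗[B] Ω}
    {nabla'' : M ⊗[B] M' →ₗ[A] (M ⊗[B] M') ⊗[B] Ω} (h : IsTensorConn nabla nabla' nabla'')
    (θ : Ω →ₗ[B] B) (m : M) (m' : M') :
    along nabla'' θ (m ⊗ₜ m') = along nabla θ m ⊗ₜ m' + m ⊗ₜ along nabla' θ m' := by
  rw [along_eq, h m m', map_add, along_eq, along_eq]
  congr 1
  · generalize nabla m = x
    induction x with
    | zero => simp
    | add a b ha hb => simp only [add_tmul, map_add, ha, hb]
    | tmul n ω => simp [swapR_tmul, contract_tmul, smul_tmul']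
  · generalize nabla' m' = x
    induction x with
    | zero => simp
    | add a b ha hb => simp only [tmul_add, map_add, ha, hb]
    | tmul n ω => simp [contract_tmul]

theorem trace_along [Module.Finite B M] [Module.Free B M] (δ : Derivation A B Ω)
    (nabla : M →ₗ[A] M ⊗[B] Ω) (hc : IsConn δ nabla)
    {nablaE : (M →ₗ[B] M) →ₗ[A] (M →ₗ[B] M) ⊗[B] Ω} (hE : IsHomConn nabla nabla nablaE)
    (θ : Ω →ₗ[B] B) (φ : M →ₗ[B] M) :
    LinearMap.trace B M (along nablaE θ φ) = θ (δ (LinearMap.trace B M φ)) := by
  classical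
  let e := Module.Free.chooseBasis B M
  rw [LinearMap.trace_eq_matrix_trace B e, LinearMap.trace_eq_matrix_trace B e]
  let G : Matrix (Module.Free.ChooseBasisIndex B M) (Module.Free.ChooseBasisIndex B M) B :=
    fun i j => e.repr (along nabla θ (e j)) i
  let Φ := LinearMap.toMatrix e e φ
  have key : LinearMap.toMatrix e e (along nablaE θ φ) = Φ.map (fun b => θ (δ b)) + G * Φ - Φ * G := by
    ext i j
    rw [LinearMap.toMatrix_apply, along_hom hE, map_sub, Finsupp.sub_apply, Matrix.sub_apply,
      Matrix.add_apply, Matrix.map_apply, Matrix.mul_apply, Matrix.mul_apply]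
    have hΦ : ∀ a b, Φ a b = e.repr (φ (e b)) a := fun a b => LinearMap.toMatrix_apply e e φ a b
    have h1 : φ (e j) = ∑ k, Φ k j • e k := by
      rw [← e.sum_repr (φ (e j))]
      refine Finset.sum_congr rfl fun k _ => ?_
      rw [hΦ]
    have h2 : along nabla θ (e j) = ∑ k, G k j • e k := (e.sum_repr _).symm
    have hsingle : ∀ (c : Module.Free.ChooseBasisIndex B M → B), e.repr (∑ k, c k • e k) i = c i := fun c => by
      rw [← Module.Basis.equivFun_symm_apply e c]
      exact congrFun (e.equivFun.apply_symm_apply c) i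
    congr 1
    · rw [h1, map_sum]
      simp only [along_smul δ nabla hc, Finset.sum_add_distrib, map_add, Finsupp.add_apply, hsingle]
      rw [add_comm]
      congr 1
      rw [map_sum, Finsupp.finsetSum_apply]
      refine Finset.sum_congr rfl fun k _ => ?_
      rw [map_smul, Finsupp.smul_apply, smul_eq_mul, mul_comm]
    · rw [h2, map_sum, map_sum, Finsupp.finsetSum_apply]
      refine Finset.sum_congr rfl fun k _ => ?_
      rw [map_smul, map_smul, Finsupp.smul_apply, smul_eq_mul, mul_comm, hΦ]
  rw [key, Matrix.trace_sub, Matrix.trace_add, Matrix.trace_mul_comm G Φ, add_sub_cancel_right]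
  simp [Matrix.trace, map_sum, Φ]

end Groth.Agent.Conn12
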